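import Groth.Agent.Lib.CentMT14.Quotient
import Groth.Agent.Lib.AffMono14.Basic
import Groth.Agent.Lib.HopfAG.UnipFun
import Groth.Agent.S3278
import Groth.Agent.Lib.EtLocal.Affine
import Groth.Agent.S19598
import Groth.Agent.Lib.QuotMap19.Basic

/-!
Commutative affine groups: the largest subgroup of multiplicative type and its unipotent quotient.
-/

universe u

open CategoryTheory CategoryTheory.Limits MonoidalCategory CartesianMonoidalCategory MonObj GrpObj
open AlgebraicGeometry

set_option backward.isDefEq.respectTransparency false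

namespace GrothLib.MultUnip16

open GrothLib.MultHopf14 GrothLib.CentMT14

variable {k : Type u} [Field k]

local notation "𝒦" => Over (Spec (CommRingCat.of k))

/-- A homomorphism of affine Hopf group schemes comes from a bialgebra map. -/
theorem exists_bialgHom {A B : Type u} [CommRing A] [HopfAlgebra k A] [CommRing B] [HopfAlgebra k B]
    (v : specGrp (R := k) A ⟶ specGrp (R := k) B) [IsMonHom v] :
    ∃ φ : B →ₐc[k] A, Spec.map (CommRingCat.ofHom (φ : B →+* A)) = v.left := by
  let q : (hopfSpec (CommRingCat.of k)).obj (Opposite.op (CommHopfAlgCat.of k A)) ⟶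
      (hopfSpec (CommRingCat.of k)).obj (Opposite.op (CommHopfAlgCat.of k B)) :=
    (show Grp.mk (specGrp (R := k) A) ⟶ Grp.mk (specGrp (R := k) B) from
      Grp.homMk (A := Grp.mk (specGrp (R := k) A)) (B := Grp.mk (specGrp (R := k) B)) v)
  haveI : (hopfSpec (CommRingCat.of k)).Full := hopfSpec.instFull
  obtain ⟨ψ, hψ⟩ := (hopfSpec (CommRingCat.of k)).map_surjective q
  exact ⟨ψ.unop.hom, congrArg (fun w => w.hom.hom.left) hψ⟩

/-- A group isomorphic to the spectrum of a unipotent Hopf algebra. -/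
def IsUnipGrp (U : Over (Spec (CommRingCat.of k))) [GrpObj U] : Prop :=
  ∃ (A : Type u) (_ : CommRing A) (_ : HopfAlgebra k A) (e : U ⟶ specGrp (R := k) A) (e' : specGrp (R := k) A ⟶ U),
    IsMonHom e ∧ IsMonHom e' ∧ e ≫ e' = 𝟙 U ∧ e' ≫ e = 𝟙 _ ∧ HopfRep.IsUnipotent k A

theorem IsUnipGrp.hom_eq_one {U N : 𝒦} [GrpObj U] [GrpObj N] (hU : IsUnipGrp U) (hN : SGA3x.IsMultTypeFT N)
    (v : N ⟶ U) [IsMonHom v] : v = 1 := by
  obtain ⟨A, _, _, e, e', he, he', h1, h2, hA⟩ := hU
  have h := hom_unip_eq_one hN hA (v ≫ e)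
  calc v = (v ≫ e) ≫ e' := by rw [Category.assoc, h1, Category.comp_id]
    _ = 1 := by rw [h, MonObj.one_comp]

/-- A flat surjective image of a unipotent group is unipotent. -/
theorem IsUnipGrp.image {U Q : 𝒦} [GrpObj U] [GrpObj Q] [IsAffine Q.left] (hU : IsUnipGrp U)
    (d : U ⟶ Q) [IsMonHom d] [Flat d.left] [Surjective d.left] : IsUnipGrp Q := by
  obtain ⟨A, _, _, e, e', he, he', h1, h2, hA⟩ := hU
  haveI : IsAffineHom Q.hom := isAffineHom_of_isAffine _
  obtain ⟨A', _, _, ⟨i⟩⟩ := exists_hopf Q inferInstance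
  let eh : specGrp (R := k) A' ⟶ Q := i.hom.hom.hom
  let einv : Q ⟶ specGrp (R := k) A' := i.inv.hom.hom
  haveI : IsMonHom eh := Mon.Hom.isMonHom_hom _
  haveI : IsMonHom einv := Mon.Hom.isMonHom_hom _
  have e1 : eh ≫ einv = 𝟙 _ := congrArg (fun t => t.hom.hom) i.hom_inv_id
  have e2 : einv ≫ eh = 𝟙 _ := congrArg (fun t => t.hom.hom) i.inv_hom_id
  haveI : IsIso e' := ⟨e, h2, h1⟩
  haveI : IsIso einv := ⟨eh, e2, e1⟩
  haveI : IsIso e'.left := inferInstanceAs (IsIso ((Over.forget _).map e'))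
  haveI : IsIso einv.left := inferInstanceAs (IsIso ((Over.forget _).map einv))
  obtain ⟨φ, hφ⟩ := exists_bialgHom (e' ≫ d ≫ einv)
  haveI : Flat (Spec.map (CommRingCat.ofHom (φ : A' →+* A))) := by
    rw [hφ, Over.comp_left, Over.comp_left]; infer_instance
  haveI : Surjective (Spec.map (CommRingCat.ofHom (φ : A' →+* A))) := by
    rw [hφ, Over.comp_left, Over.comp_left]; infer_instance
  have hff : (φ : A' →+* A).FaithfullyFlat := by
    rw [RingHom.FaithfullyFlat.iff_flat_and_comap_surjective]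
    exact ⟨(HasRingHomProperty.Spec_iff (P := @Flat)).mp ‹Flat (Spec.map (CommRingCat.ofHom (φ : A' →+* A)))›,
      (Spec.map (CommRingCat.ofHom (φ : A' →+* A))).surjective⟩
  exact ⟨A', inferInstance, inferInstance, einv, eh, inferInstance, inferInstance, e2, e1,
    GrothLib.Unip.isUnipotent_of_injective φ hff.injective hA⟩

/-- The quotient by the largest subgroup of multiplicative type is unipotent. -/
theorem exists_unipQuot (G : 𝒦) [GrpObj G] [IsCommMonObj G] [IsAffine G.left] [LocallyOfFiniteType G.hom]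
    (M : 𝒦) [GrpObj M] (j : M ⟶ G) [IsMonHom j] [IsClosedImmersion j.left] (hM : SGA3x.IsMultTypeFT M)
    (hMmax : ∀ (M' : Over (Spec (CommRingCat.of k))) [GrpObj M'] (j' : M' ⟶ G) [IsMonHom j']
      [IsClosedImmersion j'.left], SGA3x.IsMultTypeFT M' → ∃ g : M' ⟶ M, g ≫ j = j') :
    ∃ (U : Over (Spec (CommRingCat.of k))) (_ : GrpObj U) (q : G ⟶ U), IsMonHom q ∧ IsAffine U.left ∧
      LocallyOfFiniteType U.hom ∧ Flat q.left ∧ Surjective q.left ∧ AlgGrp.IsKernel j q ∧ IsUnipGrp U := by
  haveI : IsAffineHom G.hom := isAffineHom_of_isAffine _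
  obtain ⟨A, _, _, ⟨i⟩⟩ := exists_hopf G inferInstance
  let eh : specGrp (R := k) A ⟶ G := i.hom.hom.hom
  let einv : G ⟶ specGrp (R := k) A := i.inv.hom.hom
  haveI : IsMonHom eh := Mon.Hom.isMonHom_hom _
  haveI : IsMonHom einv := Mon.Hom.isMonHom_hom _
  have e1 : eh ≫ einv = 𝟙 _ := congrArg (fun t => t.hom.hom) i.hom_inv_id
  have e2 : einv ≫ eh = 𝟙 _ := congrArg (fun t => t.hom.hom) i.inv_hom_id
  haveI : IsIso eh := ⟨einv, e1, e2⟩
  haveI : IsIso einv := ⟨eh, e2, e1⟩
  haveI : IsIso eh.left := inferInstanceAs (IsIso ((Over.forget _).map eh))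
  have hcG : ∀ (T : 𝒦) (a b : T ⟶ G), a * b = b * a := fun T a b => by
    have hT := (isCommMonObj_iff_isMulCommutative (M := G)).1 inferInstance T
    exact hT.is_comm.comm a b
  haveI : Coalgebra.IsCocomm k A := isCocomm_of_comm fun Y a b => by
    rw [← cancel_mono eh, MonObj.mul_comp, MonObj.mul_comp]
    exact hcG _ _ _
  haveI : Algebra.FiniteType k A := by
    have h : LocallyOfFiniteType (specGrp (R := k) A).hom := by
      rw [← Over.w eh]
      infer_instance
    change LocallyOfFiniteType (Spec.map (CommRingCat.ofHom (algebraMap k A))) at h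
    rw [HasRingHomProperty.Spec_iff (P := @LocallyOfFiniteType), CommRingCat.hom_ofHom,
      RingHom.finiteType_algebraMap] at h
    exact h
  obtain ⟨J, _, hJ, -, B, _, _, φ, -, hJφ, hB⟩ := GrothLib.CommHopf14.exists_largest_multType (k := k) (A := A)
  let v : G ⟶ specGrp (R := k) B := einv ≫ specMap φ
  haveI : IsMonHom v := inferInstance
  haveI : Mono j := Over.mono_of_mono_left j
  have hjv : j ≫ v = 1 := hom_unip_eq_one hM hB (j ≫ v)
  -- the kernel of `v` lies in `M`
  let m : specGrp (R := k) (A ⧸ J) ⟶ specGrp (R := k) A := specMap (Bialgebra.Quotient.mkBialgHom J)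
  haveI : IsClosedImmersion m.left := IsClosedImmersion.spec_of_surjective
    (CommRingCat.ofHom (Ideal.Quotient.mk J)) Ideal.Quotient.mk_surjective
  haveI : IsClosedImmersion (m ≫ eh).left := by rw [Over.comp_left]; infer_instance
  obtain ⟨g₀, hg₀⟩ := hMmax _ (m ≫ eh) (isMultTypeFT_specGrp hJ)
  have hker : ∀ (T : 𝒦) (x : T ⟶ G), x ≫ v = 1 → ∃ y : T ⟶ M, y ≫ j = x := by
    intro T x hx
    obtain ⟨z, hz⟩ := exists_lift_kernel φ J hJφ (x ≫ einv) (by rw [Category.assoc]; exact hx)
    refine ⟨z ≫ g₀, ?_⟩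
    rw [Category.assoc, hg₀, ← Category.assoc]
    change (z ≫ m) ≫ eh = x
    rw [hz, Category.assoc, e2, Category.comp_id]
  -- the quotient
  have hjn : AlgGrp.IsNormalHom j := fun T g n => ⟨n, by rw [hcG T g, mul_inv_cancel_right]⟩
  obtain ⟨U, _, q, hq, hUa, hUl, hqf, hqs, hqk⟩ := Groth.Agent.S3278.result k G M j hjn
  haveI := hq; haveI := hUa; haveI := hUl; haveI := hqf; haveI := hqs
  haveI : LocallyOfFinitePresentation q.left := GrothLib.QuotMap19.lfp_orbitMap q
  obtain ⟨d, hd⟩ := GrothLib.QuotTorus14.exists_desc q v fun C _ p a a' haa => by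
    have hk : (a⁻¹ * a') ≫ q = toUnit _ ≫ η[U] := by
      rw [MonObj.mul_comp, GrpObj.inv_comp, ← haa, inv_mul_cancel, Hom.one_def]
    obtain ⟨y, hy, -⟩ := IsPullback.exists_lift hqk _ _ hk
    have h0 : (a⁻¹ * a') ≫ v = 1 := by rw [← hy, Category.assoc, hjv, MonObj.comp_one]
    rw [MonObj.mul_comp, GrpObj.inv_comp, inv_mul_eq_one] at h0
    exact h0
  haveI : IsMonHom (q ≫ d) := by rw [hd]; infer_instance
  haveI : IsMonHom d := GrothLib.QuotTorus14.isMonHom_desc q d
  have hinj : ∀ (T : 𝒦) (z : T ⟶ U), z ≫ d = 1 → z = 1 := by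
    intro T z hz
    let T' : 𝒦 := Over.mk (pullback.fst z.left q.left ≫ T.hom)
    let π : T' ⟶ T := Over.homMk (pullback.fst z.left q.left) rfl
    let g : T' ⟶ G := Over.homMk (pullback.snd z.left q.left) (by
      change pullback.snd z.left q.left ≫ G.hom = pullback.fst z.left q.left ≫ T.hom
      rw [← Over.w q, ← pullback.condition_assoc, Over.w z])
    have hgq : g ≫ q = π ≫ z := Over.OverMorphism.ext pullback.condition.symm
    haveI : Flat π.left := MorphismProperty.pullback_fst (P := @Flat) _ _ hqf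
    haveI : Surjective π.left := MorphismProperty.pullback_fst (P := @Surjective) _ _ hqs
    haveI : QuasiCompact q.left := by
      haveI : IsSeparated U.hom := inferInstance
      haveI : QuasiCompact (q.left ≫ U.hom) := by rw [Over.w]; infer_instance
      exact QuasiCompact.of_comp q.left U.hom
    haveI : QuasiCompact π.left := MorphismProperty.pullback_fst (P := @QuasiCompact) _ _ ‹_›
    haveI : Epi π.left := Flat.epi_of_flat_of_surjective _
    haveI : Epi π := (Over.forget _).epi_of_epi_map (inferInstanceAs (Epi π.left))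
    have hgv : g ≫ v = 1 := by
      rw [← hd, ← Category.assoc, hgq, Category.assoc, hz, MonObj.comp_one]
    obtain ⟨y, hy⟩ := hker _ g hgv
    rw [← cancel_epi π, MonObj.comp_one, ← hgq, ← hy, Category.assoc, hqk.w, ← Category.assoc,
      toUnit_unique (y ≫ toUnit M) (toUnit _), Hom.one_def]
  haveI : Mono d := ⟨fun {T} a b hab => by
    have := hinj T (a * b⁻¹) (by rw [MonObj.mul_comp, GrpObj.inv_comp, hab, mul_inv_cancel])
    exact mul_inv_eq_one.mp this⟩
  haveI : QuasiCompact d.left := by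
    haveI : QuasiCompact (d.left ≫ (specGrp (R := k) B).hom) := by rw [Over.w]; infer_instance
    haveI : QuasiSeparated (specGrp (R := k) B).hom :=
      inferInstanceAs (QuasiSeparated (Spec.map (CommRingCat.ofHom (algebraMap k B))))
    exact QuasiCompact.of_comp d.left (specGrp (R := k) B).hom
  haveI : IsAffine (specGrp (R := k) B).left := inferInstanceAs (IsAffine (Spec (CommRingCat.of B)))
  haveI := GrothLib.AffMono14.isClosedImmersion_of_mono d
  haveI : IsAffineHom U.hom := isAffineHom_of_isAffine _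
  obtain ⟨A', _, _, ⟨i'⟩⟩ := exists_hopf U inferInstance
  let fh : specGrp (R := k) A' ⟶ U := i'.hom.hom.hom
  let finv : U ⟶ specGrp (R := k) A' := i'.inv.hom.hom
  haveI : IsMonHom fh := Mon.Hom.isMonHom_hom _
  haveI : IsMonHom finv := Mon.Hom.isMonHom_hom _
  have f1 : fh ≫ finv = 𝟙 _ := congrArg (fun t => t.hom.hom) i'.hom_inv_id
  have f2 : finv ≫ fh = 𝟙 _ := congrArg (fun t => t.hom.hom) i'.inv_hom_id
  haveI : IsIso fh := ⟨finv, f1, f2⟩
  haveI : IsIso fh.left := inferInstanceAs (IsIso ((Over.forget _).map fh))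
  obtain ⟨ψ, hψ⟩ := exists_bialgHom (fh ≫ d)
  have hψs : Function.Surjective ψ := by
    haveI : IsClosedImmersion (Spec.map (CommRingCat.ofHom (ψ : B →+* A'))) := by
      rw [hψ, Over.comp_left]; infer_instance
    exact GrothLib.EtLocal.surjective_of_isClosedImmersion_specMap (CommRingCat.ofHom (ψ : B →+* A'))
  exact ⟨U, inferInstance, q, inferInstance, inferInstance, inferInstance, inferInstance, inferInstance, hqk,
    A', inferInstance, inferInstance, finv, fh, inferInstance, inferInstance, f2, f1,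
    GrothLib.Unip.isUnipotent_of_surjective ψ hψs hB⟩

end GrothLib.MultUnip16
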