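import Groth.Agent.Lib.MultUnip16.Main
import Groth.Agent.Lib.CentSplit14.Unip
import Groth.Agent.Lib.HopfAG.UnipApp
import Groth.Agent.Lib.HopfAG.UnipPts
import Groth.Agent.Lib.NormQF14.Pow
import Groth.Agent.Lib.Neutral.FieldFactor
import Groth.Agent.Lib.GrpDeligne.Factor

/-!
Quasi-complements of the largest subgroup of multiplicative type of a commutative affine group.
-/

universe u

open CategoryTheory CategoryTheory.Limits MonoidalCategory CartesianMonoidalCategory MonObj GrpObj
open AlgebraicGeometry WithConv
open scoped TensorProduct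
open scoped GrothLib.Chevalley

set_option backward.isDefEq.respectTransparency false
set_option maxSynthPendingDepth 3

namespace GrothLib.MultUnip16

open GrothLib.MultHopf14 GrothLib.CentMT14 GrothLib.HopfNQ14

variable {k : Type u} [Field k]

local notation "𝒦" => Over (Spec (CommRingCat.of k))

/-- Points of a base change, restricted. -/
noncomputable def restr (L : Type u) [Field L] [Algebra k L] (A : Type u) [CommRing A] [HopfAlgebra k A] :
    WithConv (L ⊗[k] A →ₐ[L] L) →* WithConv (A →ₐ[k] L) where
  toFun x := toConv ((x.ofConv.restrictScalars k).comp Algebra.TensorProduct.includeRight)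
  map_one' := by
    refine WithConv.ofConv_injective (AlgHom.ext fun a => ?_)
    change (1 : WithConv (L ⊗[k] A →ₐ[L] L)).ofConv ((1 : L) ⊗ₜ[k] a) = _
    rw [AlgHom.convOne_apply, AlgHom.convOne_apply, TensorProduct.counit_tmul, CommSemiring.counit_apply,
      Algebra.algebraMap_self, RingHom.id_apply, Algebra.smul_def, _root_.mul_one]
  map_mul' x y := by
    refine WithConv.ofConv_injective (AlgHom.ext fun a => ?_)
    change (x * y).ofConv ((1 : L) ⊗ₜ[k] a) = _
    rw [AlgHom.convMul_apply, AlgHom.convMul_apply, TensorProduct.comul_tmul, CommSemiring.comul_apply]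
    induction Coalgebra.comul (R := k) a using TensorProduct.induction_on with
    | zero => simp
    | tmul b c => simp
    | add b c hb hc => simp only [TensorProduct.tmul_add, map_add, hb, hc]

theorem restr_apply (L : Type u) [Field L] [Algebra k L] {A : Type u} [CommRing A] [HopfAlgebra k A]
    (x : WithConv (L ⊗[k] A →ₐ[L] L)) (a : A) : (restr L A x).ofConv a = x.ofConv ((1 : L) ⊗ₜ[k] a) := rfl

theorem restr_pre (L : Type u) [Field L] [Algebra k L] {A B : Type u} [CommRing A] [HopfAlgebra k A]
    [CommRing B] [HopfAlgebra k B] (φ : B →ₐc[k] A) (x : WithConv (L ⊗[k] A →ₐ[L] L)) :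
    restr L B (pre (Bialgebra.TensorProduct.map (BialgHom.id L L) φ) x) = pre φ (restr L A x) := by
  refine WithConv.ofConv_injective (AlgHom.ext fun b => ?_)
  rfl

theorem exists_restr_eq (L : Type u) [Field L] [Algebra k L] {A : Type u} [CommRing A] [HopfAlgebra k A]
    (g : WithConv (A →ₐ[k] L)) : ∃ x, restr L A x = g := by
  refine ⟨toConv (Algebra.TensorProduct.lift (Algebra.ofId L L) g.ofConv fun _ _ => Commute.all _ _), ?_⟩
  refine WithConv.ofConv_injective (AlgHom.ext fun a => ?_)
  rw [restr_apply]
  simp

/-- In positive characteristic every point decomposes, up to a bounded power. -/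
theorem exists_decomp {A B : Type u} [CommRing A] [HopfAlgebra k A] [Algebra.FiniteType k A]
    [Coalgebra.IsCocomm k A] [CommRing B] [HopfAlgebra k B] (p : ℕ) [Fact p.Prime] [CharP k p]
    (J : Ideal A) [J.IsHopfIdeal k] (hJ : SGA3b.IsMultTypeConst k (A ⧸ J)) (φ : B →ₐc[k] A)
    (hφ : Function.Injective φ) (hB : HopfRep.IsUnipotent k B)
    (hJφ : J = Ideal.map (φ : B →+* A) (RingHom.ker (Bialgebra.counitAlgHom k B))) :
    ∃ P : ℕ, 0 < P ∧ ∀ g : WithConv (A →ₐ[k] AlgebraicClosure k),
      ∃ m u : WithConv (A →ₐ[k] AlgebraicClosure k), g = m * u ∧ pre φ m = 1 ∧ u ^ P = 1 := by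
  set L := AlgebraicClosure k
  let ψL := Bialgebra.TensorProduct.map (BialgHom.id L L) φ
  let π : A →ₐc[k] A ⧸ J := Bialgebra.Quotient.mkBialgHom J
  have hker : ∀ a, π a = 0 ↔ a ∈ GrothLib.Hopf.kerIdeal k φ := fun a =>
    Ideal.Quotient.eq_zero_iff_mem.trans (by rw [hJφ]; rfl)
  obtain ⟨r, hr, -⟩ := GrothLib.CentSplit14.existsUnique_retraction_perfect ψL
    (GrothLib.CentSplit14.baseChange_map_injective φ hφ L) (GrothLib.Unip.isUnipotent_baseChange_iff.1 hB)
    (Bialgebra.TensorProduct.map (BialgHom.id L L) π)
    (GrothLib.CentSplit14.baseChange_map_surjective π Ideal.Quotient.mk_surjective L)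
    (GrothLib.CentSplit14.ker_baseChange φ π Ideal.Quotient.mk_surjective hker L)
    (GrothLib.CentSplit14.isMultTypeConst_baseChange L hJ)
  have hr' : ∀ c, r (ψL c) = c := DFunLike.congr_fun hr
  haveI : Algebra.FiniteType L (L ⊗[k] B) :=
    Algebra.FiniteType.of_surjective (r : L ⊗[k] A →ₐ[L] L ⊗[k] B) fun c => ⟨ψL c, hr' c⟩
  haveI : CharP L p := charP_of_injective_algebraMap (algebraMap k L).injective p
  obtain ⟨s, hs⟩ := GrothLib.Unip.pow_char_pow_eq_one (GrothLib.Unip.forall_mem_soc_baseChange hB L) p
  refine ⟨p ^ s, pow_pos (Fact.out : p.Prime).pos s, fun g => ?_⟩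
  obtain ⟨x, hx⟩ := exists_restr_eq L g
  set χ := pre ψL x
  set u' := pre r χ
  have hu' : pre ψL u' = χ := WithConv.ofConv_injective (AlgHom.ext fun c => by
    change χ.ofConv (r (ψL c)) = χ.ofConv c
    rw [hr'])
  refine ⟨restr L A (x * u'⁻¹), restr L A u', ?_, ?_, ?_⟩
  · rw [← map_mul, inv_mul_cancel_right, hx]
  · rw [← restr_pre, map_mul, map_inv' (pre ψL), hu', mul_inv_cancel, map_one]
  · rw [← map_pow, ← map_pow, hs, map_one, map_one]

/-- Every closed point of an affine scheme of finite type is the image of a point over an algebraic closure. -/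
theorem exists_point_of_isMaximal {A : Type u} [CommRing A] [Algebra k A] [Algebra.FiniteType k A]
    (m : Ideal A) [m.IsMaximal] : ∃ g : A →ₐ[k] AlgebraicClosure k, RingHom.ker g = m := by
  letI := Ideal.Quotient.field m
  haveI : Algebra.FiniteType k (A ⧸ m) := inferInstance
  haveI : Module.Finite k (A ⧸ m) := finite_of_finite_type_of_isJacobsonRing k (A ⧸ m)
  let f : A ⧸ m →ₐ[k] AlgebraicClosure k := IsAlgClosed.lift
  refine ⟨f.comp (Ideal.Quotient.mkₐ k m), ?_⟩
  ext a
  rw [RingHom.mem_ker]
  change f (Ideal.Quotient.mk m a) = 0 ↔ a ∈ m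
  rw [map_eq_zero_iff f f.injective, Ideal.Quotient.eq_zero_iff_mem]

theorem exists_quasiComplement (G : 𝒦) [GrpObj G] [IsCommMonObj G] [IsAffine G.left]
    [LocallyOfFiniteType G.hom] (M : 𝒦) [GrpObj M] (j : M ⟶ G) [IsMonHom j] [IsClosedImmersion j.left]
    (hM : SGA3x.IsMultTypeFT M)
    (hMmax : ∀ (M' : Over (Spec (CommRingCat.of k))) [GrpObj M'] (j' : M' ⟶ G) [IsMonHom j']
      [IsClosedImmersion j'.left], SGA3x.IsMultTypeFT M' → ∃ g : M' ⟶ M, g ≫ j = j') :
    ∃ (H : Over (Spec (CommRingCat.of k))) (_ : GrpObj H) (h : H ⟶ G), IsMonHom h ∧ IsClosedImmersion h.left ∧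
      Surjective ((j ⊗ₘ h) ≫ μ[G]).left ∧
      IsFinite (pullback.fst j.left h.left ≫ M.hom) := by
  haveI : IsAffineHom G.hom := isAffineHom_of_isAffine _
  obtain ⟨A, _, _, ⟨i⟩⟩ := exists_hopf G inferInstance
  let eh : specGrp (R := k) A ⟶ G := i.hom.hom.hom
  let einv : G ⟶ specGrp (R := k) A := i.inv.hom.hom
  haveI : IsMonHom eh := Mon.Hom.isMonHom_hom _
  haveI : IsMonHom einv := Mon.Hom.isMonHom_hom _
  have e1 : eh ≫ einv = 𝟙 _ := congrArg (fun t => t.hom.hom) i.hom_inv_id
  have e2 : einv ≫ eh = 𝟙 _ := congrArg (fun t => t.hom.hom) i.inv_hom_id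
  haveI : IsIso eh := ⟨einv, e1, e2⟩
  haveI : IsIso eh.left := inferInstanceAs (IsIso ((Over.forget _).map eh))
  have hcG : ∀ (T : 𝒦) (a b : T ⟶ G), a * b = b * a := fun T a b => by
    have hT := (isCommMonObj_iff_isMulCommutative (M := G)).1 inferInstance T
    exact hT.is_comm.comm a b
  haveI : Coalgebra.IsCocomm k A := isCocomm_of_comm fun Y a b => by
    rw [← cancel_mono eh, MonObj.mul_comp, MonObj.mul_comp]
    exact hcG _ _ _
  haveI : Algebra.FiniteType k A := by
    have h : LocallyOfFiniteType (specGrp (R := k) A).hom := by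
      rw [← Over.w eh]
      infer_instance
    change LocallyOfFiniteType (Spec.map (CommRingCat.ofHom (algebraMap k A))) at h
    rw [HasRingHomProperty.Spec_iff (P := @LocallyOfFiniteType), CommRingCat.hom_ofHom,
      RingHom.finiteType_algebraMap] at h
    exact h
  obtain ⟨J, _, hJ, -, B, _, _, φ, hφ, hJφ, hB⟩ := GrothLib.CommHopf14.exists_largest_multType (k := k) (A := A)
  let v : G ⟶ specGrp (R := k) B := einv ≫ specMap φ
  haveI : IsMonHom v := inferInstance
  haveI : Mono j := Over.mono_of_mono_left j
  have hjv : j ≫ v = 1 := hom_unip_eq_one hM hB (j ≫ v)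
  let mJ : specGrp (R := k) (A ⧸ J) ⟶ specGrp (R := k) A := specMap (Bialgebra.Quotient.mkBialgHom J)
  haveI : IsClosedImmersion mJ.left := IsClosedImmersion.spec_of_surjective
    (CommRingCat.ofHom (Ideal.Quotient.mk J)) Ideal.Quotient.mk_surjective
  haveI : IsClosedImmersion (mJ ≫ eh).left := by rw [Over.comp_left]; infer_instance
  obtain ⟨g₀, hg₀⟩ := hMmax _ (mJ ≫ eh) (isMultTypeFT_specGrp hJ)
  have hker : ∀ (T : 𝒦) (x : T ⟶ G), x ≫ v = 1 → ∃ y : T ⟶ M, y ≫ j = x := by
    intro T x hx
    obtain ⟨z, hz⟩ := exists_lift_kernel φ J hJφ (x ≫ einv) (by rw [Category.assoc]; exact hx)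
    refine ⟨z ≫ g₀, ?_⟩
    rw [Category.assoc, hg₀, ← Category.assoc]
    change (z ≫ mJ) ≫ eh = x
    rw [hz, Category.assoc, e2, Category.comp_id]
  rcases CharP.exists' k with h0 | ⟨p, hp, hcp⟩
  · -- characteristic zero: a complement
    haveI := h0
    let π : A →ₐc[k] A ⧸ J := Bialgebra.Quotient.mkBialgHom J
    have hker' : ∀ a, π a = 0 ↔ a ∈ GrothLib.Hopf.kerIdeal k φ := fun a =>
      Ideal.Quotient.eq_zero_iff_mem.trans (by rw [hJφ]; rfl)
    obtain ⟨r, hr, -⟩ := GrothLib.CentSplit14.existsUnique_retraction_perfect φ hφ hB π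
      Ideal.Quotient.mk_surjective hker' hJ
    have hr' : ∀ c, r (φ c) = c := DFunLike.congr_fun hr
    let h : specGrp (R := k) B ⟶ G := specMap r ≫ eh
    haveI : IsClosedImmersion (specMap r).left := IsClosedImmersion.spec_of_surjective
      (CommRingCat.ofHom (r : A →+* B)) fun c => ⟨φ c, hr' c⟩
    haveI : IsClosedImmersion h.left := by rw [Over.comp_left]; infer_instance
    have hrv : h ≫ v = 𝟙 _ := by
      have e : specMap r ≫ specMap φ = 𝟙 (specGrp (R := k) B) := by
        apply Over.OverMorphism.ext
        rw [comp_specMap_left, specMap_left, ← Spec.map_comp, ← CommRingCat.ofHom_comp]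
        rw [show (r : A →+* B).comp (φ : B →+* A) = RingHom.id B from RingHom.ext hr', CommRingCat.ofHom_id,
          Spec.map_id]
        rfl
      change (specMap r ≫ eh) ≫ einv ≫ specMap φ = _
      rw [Category.assoc, reassoc_of% e1, e]
    refine ⟨specGrp (R := k) B, inferInstance, h, inferInstance, inferInstance, ?_, ?_⟩
    · obtain ⟨y, hy⟩ := hker G (𝟙 G * (v ≫ h)⁻¹) (by
        rw [MonObj.mul_comp, GrpObj.inv_comp, Category.assoc, hrv, Category.comp_id, Category.id_comp,
          mul_inv_cancel])
      have hsec : lift y v ≫ (j ⊗ₘ h) ≫ μ[G] = 𝟙 G := by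
        rw [lift_map_assoc, ← Hom.mul_def, hy, inv_mul_cancel_right]
      refine ⟨fun x => ⟨(lift y v).left x, ?_⟩⟩
      rw [← Scheme.Hom.comp_apply, ← Over.comp_left, hsec]
      rfl
    · let T : 𝒦 := Over.mk (pullback.fst j.left h.left ≫ M.hom)
      let x : T ⟶ M := Over.homMk (pullback.fst j.left h.left) rfl
      let c : T ⟶ specGrp (R := k) B := Over.homMk (pullback.snd j.left h.left) (by
        change pullback.snd j.left h.left ≫ _ = pullback.fst j.left h.left ≫ M.hom
        rw [← Over.w h, ← pullback.condition_assoc, Over.w j])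
      have hxc : x ≫ j = c ≫ h := Over.OverMorphism.ext pullback.condition
      have hc : c = 1 := by
        have := congrArg (· ≫ v) hxc
        simp only [Category.assoc, hjv, hrv, Category.comp_id, MonObj.comp_one] at this
        exact this.symm
      have hx : x = 1 := by
        rw [← cancel_mono j, hxc, hc, MonObj.one_comp, MonObj.one_comp]
      haveI : IsClosedImmersion (pullback.fst j.left h.left) := inferInstance
      have e : pullback.fst j.left h.left = (pullback.fst j.left h.left ≫ M.hom) ≫ η[M].left := by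
        have := congrArg (fun t => t.left) hx
        rw [Hom.one_def, Over.comp_left] at this
        exact this
      haveI : IsClosedImmersion ((pullback.fst j.left h.left ≫ M.hom) ≫ η[M].left) := by rw [← e]; infer_instance
      haveI : IsAffine M.left := isAffine_of_isAffineHom j.left
      haveI : LocallyOfFiniteType M.hom := by rw [← Over.w j]; infer_instance
      haveI := GrothLib.GrpSchField.unit_isClosedImmersion M
      haveI : IsClosedImmersion (pullback.fst j.left h.left ≫ M.hom) := IsClosedImmersion.of_comp _ η[M].left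
      infer_instance
  · -- positive characteristic: the kernel of a power
    haveI := hp; haveI := hcp
    obtain ⟨P, hP, hdec⟩ := exists_decomp (k := k) p J hJ φ hφ hB hJφ
    let q : G ⟶ G := (𝟙 G) ^ P
    have hq : ∀ (T : 𝒦) (x : T ⟶ G), x ≫ q = x ^ P := fun T x => by
      simp only [q, MonObj.comp_pow, Category.comp_id]
    haveI : IsMonHom q := GrothLib.DiagGrp.isMonHom_of_points q fun T x y => by
      rw [hq, hq, hq, (show Commute x y from hcG T x y).mul_pow]
    let κ : pullback q η[G] ⟶ G := pullback.fst q η[G]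
    haveI := GrothLib.GrpSchField.unit_isClosedImmersion G
    haveI : IsClosedImmersion κ.left :=
      MorphismProperty.of_isPullback ((IsPullback.of_hasPullback q η[G]).map (Over.forget _)).flip
        ‹IsClosedImmersion η[G].left›
    obtain ⟨gK, hκ⟩ := GrothLib.GrpDeligne.exists_grpObj_kernel q κ
      (by
        have h := IsPullback.of_hasPullback q η[G]
        rwa [toUnit_unique (pullback.snd q η[G]) (toUnit _)] at h)
    haveI := hκ
    have hκq : κ ≫ q = 1 := by
      rw [pullback.condition, toUnit_unique (pullback.snd q η[G]) (toUnit _), Hom.one_def]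
    refine ⟨pullback q η[G], gK, κ, inferInstance, inferInstance, ?_, ?_⟩
    · set f := (j ⊗ₘ κ) ≫ μ[G]
      haveI : IsMonHom f := GrothLib.DiagGrp.isMonHom_of_points f fun T x y => by
        have hf : ∀ z : T ⟶ M ⊗ pullback q η[G],
            z ≫ f = (z ≫ fst _ _ ≫ j) * (z ≫ snd _ _ ≫ κ) := fun z => by
          rw [← MonObj.comp_mul, Hom.mul_def]
          congr 1
        rw [hf, hf, hf, MonObj.mul_comp, MonObj.mul_comp]
        exact Commute.mul_mul_mul_comm (hcG T _ _) _ _
      haveI : IsAffine M.left := isAffine_of_isAffineHom j.left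
      haveI : LocallyOfFiniteType M.hom := by rw [← Over.w j]; infer_instance
      haveI : LocallyOfFiniteType (pullback q η[G]).hom := by rw [← Over.w κ]; infer_instance
      haveI : IsAffine (pullback q η[G]).left := isAffine_of_isAffineHom κ.left
      haveI : IsAffineHom M.hom := isAffineHom_of_isAffine _
      haveI : IsAffineHom (pullback q η[G]).hom := isAffineHom_of_isAffine _
      haveI : IsAffineHom (pullback.fst M.hom (pullback q η[G]).hom) :=
        MorphismProperty.pullback_fst _ _ ‹IsAffineHom (pullback q η[G]).hom›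
      haveI : IsAffine (M ⊗ pullback q η[G]).left :=
        isAffine_of_isAffineHom (pullback.fst M.hom (pullback q η[G]).hom)
      haveI : LocallyOfFiniteType (M ⊗ pullback q η[G]).hom :=
        inferInstanceAs (LocallyOfFiniteType (pullback.fst M.hom (pullback q η[G]).hom ≫ M.hom))
      haveI : QuasiCompact f.left := inferInstance
      have hclosed := GrothLib.Neutral.isClosed_range_hom f
      haveI : JacobsonSpace G.left := LocallyOfFiniteType.jacobsonSpace (Y := Spec _) G.hom
      have hall : ∀ y ∈ closedPoints G.left, y ∈ Set.range f.left := by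
        intro y hy
        obtain ⟨z, rfl⟩ := eh.left.surjective y
        have hz : IsClosed ({z} : Set (specGrp (R := k) A).left) := by
          have := (mem_closedPoints_iff.mp hy).preimage eh.left.continuous
          rwa [show eh.left ⁻¹' {eh.left z} = ({z} : Set (specGrp (R := k) A).left) from by
            ext w; exact ⟨fun h => eh.left.homeomorph.injective h, fun h => congrArg eh.left h⟩] at this
        haveI : (z : PrimeSpectrum A).asIdeal.IsMaximal := (PrimeSpectrum.isClosed_singleton_iff_isMaximal _).mp hz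
        obtain ⟨g, hg⟩ := exists_point_of_isMaximal (k := k) (z : PrimeSpectrum A).asIdeal
        obtain ⟨m, u, hgm, hm, hu⟩ := hdec (toConv g)
        let T : 𝒦 := (Spec (CommRingCat.of (AlgebraicClosure k))).asOver (Spec (CommRingCat.of k))
        let pg : WithConv (A →ₐ[k] AlgebraicClosure k) → (T ⟶ G) := fun t => Spec.mapMulEquiv t ≫ eh
        have hmv : pg m ≫ v = 1 := by
          have h1 : Spec.mapMulEquiv m ≫ specMap φ = Spec.mapMulEquiv (pre φ m) :=
            Over.OverMorphism.ext (Spec.map_comp _ _).symm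
          simp only [pg, v, Category.assoc, reassoc_of% e1, h1, hm, map_one]
        obtain ⟨ym, hym⟩ := hker T _ hmv
        have huq : pg u ≫ q = 1 := by
          rw [hq]
          simp only [pg]
          rw [← MonObj.pow_comp, ← map_pow, hu, map_one, MonObj.one_comp]
        let yu : T ⟶ pullback q η[G] := pullback.lift (pg u) (toUnit T) (by rw [huq, Hom.one_def])
        have hyu : yu ≫ κ = pg u := pullback.lift_fst _ _ _
        have hprod : lift ym yu ≫ f = pg (toConv g) := by
          simp only [f]
          rw [lift_map_assoc, ← Hom.mul_def, hym, hyu, hgm]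
          simp only [pg, map_mul, MonObj.mul_comp]
        refine ⟨(lift ym yu).left (IsLocalRing.closedPoint (AlgebraicClosure k)), ?_⟩
        rw [← Scheme.Hom.comp_apply, ← Over.comp_left, hprod]
        simp only [pg, Over.comp_left, Scheme.Hom.comp_apply]
        congr 1
        refine PrimeSpectrum.ext ?_
        change Ideal.comap (g : A →+* AlgebraicClosure k) (IsLocalRing.closedPoint (AlgebraicClosure k)).asIdeal = _
        rw [← hg]
        change Ideal.comap _ (IsLocalRing.maximalIdeal (AlgebraicClosure k)) = _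
        rw [IsLocalRing.maximalIdeal_eq_bot]
        rfl
      refine ⟨Set.range_eq_univ.mp (Set.eq_univ_of_univ_subset ?_)⟩
      rw [← closure_closedPoints (X := G.left)]
      exact closure_minimal hall hclosed
    · let T : 𝒦 := Over.mk (pullback.fst j.left κ.left ≫ M.hom)
      let x : T ⟶ M := Over.homMk (pullback.fst j.left κ.left) rfl
      let c : T ⟶ pullback q η[G] := Over.homMk (pullback.snd j.left κ.left) (by
        change pullback.snd j.left κ.left ≫ _ = pullback.fst j.left κ.left ≫ M.hom
        rw [← Over.w κ, ← pullback.condition_assoc, Over.w j])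
      have hxc : x ≫ j = c ≫ κ := Over.OverMorphism.ext pullback.condition
      have hx : x ≫ (𝟙 M) ^ P = 1 := by
        rw [MonObj.comp_pow, Category.comp_id, ← cancel_mono j, MonObj.pow_comp, hxc, ← hq, Category.assoc, hκq,
          MonObj.comp_one, MonObj.one_comp]
      haveI := GrothLib.NormQF14.isFinite_pow M hM P hP
      have hw : pullback.fst j.left κ.left ≫ ((𝟙 M) ^ P : M ⟶ M).left =
          (pullback.fst j.left κ.left ≫ M.hom) ≫ η[M].left := by
        have := congrArg (fun t => t.left) hx
        rw [Hom.one_def, Over.comp_left, Over.comp_left] at this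
        exact this
      haveI : IsFinite (pullback.fst j.left κ.left) := inferInstance
      haveI : IsFinite ((pullback.fst j.left κ.left ≫ M.hom) ≫ η[M].left) := by rw [← hw]; infer_instance
      haveI : IsAffine M.left := isAffine_of_isAffineHom j.left
      haveI : LocallyOfFiniteType M.hom := by rw [← Over.w j]; infer_instance
      haveI := GrothLib.GrpSchField.unit_isClosedImmersion M
      exact MorphismProperty.of_postcomp (W := @IsFinite) (W' := @IsSeparated) _ η[M].left inferInstance inferInstance

end GrothLib.MultUnip16
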